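import Mathlib
import Cfsg.Prelude.Def_OddOrderLocal
import Cfsg.Prelude.Def_Solvable

/-!
Team project S1402 (Bender–Glauberman Lemma 9.5: `A ∈ SCN_3(P)` lies in a unique maximal
subgroup).  This file holds the shared vocabulary and the statements of the packages; each
package is proved in its owner's file and the assembly is `Lead/BG95/Main`.

Notation of the paper proof (note "S1402", lead): `A ∈ SCN_3(P)`, `E ≤ A` elementary abelian of
order `p ^ 3`, `K = O_{p'}(C_G(A))`; we assume `A` is NOT in a unique maximal subgroup.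
A coatom `H ≥ A` is of type (B) when `¬ RankLE 2 (F(H))`, of type (A') otherwise.
-/

set_option autoImplicit false

namespace Cfsg.Agent.Lib.Lead.BG95

open Cfsg

universe u

/-- `K = O_{p'}(C_G(A))` in the form used by S1392–S1395. -/
abbrev KOf {G : Type u} [Group G] (A : Subgroup G) : Subgroup G :=
  piCoreOf (primesNotDvd (Nat.card A)) (Subgroup.centralizer (A : Set G))

/-- Standing hypotheses (counterexample context) of the proof of BG 9.5. -/
structure Ctx (G : Type u) [Group G] [Finite G] (p : ℕ) [Fact p.Prime] (A E : Subgroup G) :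
    Prop where
  hG : IsMinSimpleOddOrder G
  hAp : IsPGroup p A
  hAc : ∀ a ∈ A, ∀ b ∈ A, a * b = b * a
  hTH : TransitivityHypothesis A
  htr : ∀ q : ℕ, q.Prime → ¬ q ∣ Nat.card A →
    ∀ Q₁ ∈ maxInvSubgroups ⊤ A {q}, ∀ Q₂ ∈ maxInvSubgroups ⊤ A {q},
      ∃ k ∈ KOf A, Q₂ = Q₁.map (MulAut.conj k).toMonoidHom
  hEA : E ≤ A
  hEe : IsElementaryAbelian p E
  hE3 : Nat.card E = p ^ 3
  hnU : ¬ InUniqueMaximal A

/-- `V'` is `A`-minimal: nontrivial, `A`-invariant, with no proper nontrivial `A`-invariant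
subgroup. -/
def AMin {G : Type u} [Group G] (A V' : Subgroup G) : Prop :=
  V' ≠ ⊥ ∧ A ≤ Subgroup.normalizer (V' : Set G) ∧
    ∀ X : Subgroup G, X ≤ V' → A ≤ Subgroup.normalizer (X : Set G) → X = ⊥ ∨ X = V'

/-- The first half of the data of a type (B) coatom `M` over `A` at the prime `u`: the
`A`-invariant elementary abelian noncyclic subgroup `W` all of whose noncyclic subgroups are
uniqueness subgroups, and uniqueness of all `u`-subgroups of rank at least 3. -/
structure WData {G : Type u} [Group G] (p : ℕ) (A M : Subgroup G) (u : ℕ) (W : Subgroup G) :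
    Prop where
  hM : IsCoatom M
  hAM : A ≤ M
  hu : u.Prime
  hup : u ≠ p
  hWM : W ≤ M
  hAW : A ≤ Subgroup.normalizer (W : Set G)
  hWe : IsElementaryAbelian u W
  hWnc : ¬ IsCyclic W
  hWU : ∀ W' : Subgroup G, W' ≤ W → ¬ IsCyclic W' → InUniqueMaximal W'
  hB9 : ∀ Q : Subgroup G, IsPGroup u Q → ¬ PRankLE u 2 ↥Q → InUniqueMaximal Q

/-- Full data of a type (B) coatom `M` over `A` at the prime `u`. -/
structure TypeB {G : Type u} [Group G] (p : ℕ) (A M : Subgroup G) (u : ℕ) (W : Subgroup G) :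
    Prop extends WData p A M u W where
  hK : KOf A ≤ M
  hB6 : ∀ Y : Subgroup G, IsPGroup u Y → A ≤ Subgroup.normalizer (Y : Set G) → Y ≤ M
  hB7 : ∀ T : Subgroup G, IsPGroup p T → A ≤ T → Subgroup.normalizer (T : Set G) ≤ M

/-! ### The packages -/

/-- PK1a (pure `u`-group lemma, Step 1).  `V` a `u`-group of rank at least 3 (`u` odd), acted on
by the abelian `p`-group `A ≥ E`.  Either there is an `A`-invariant elementary abelian noncyclic
`W ≤ V` whose centralizer has `u`-rank at least 3, or there are `W₀ ≤ V`, a noncyclic `D ≤ E`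
centralizing `W₀`, and a noncyclic `N' ≤ W₀` whose centralizer has `u`-rank at least 3. -/
def PK1a : Prop :=
  ∀ (G : Type u) [Group G] [Finite G] (p u : ℕ) [Fact p.Prime] [Fact u.Prime], u ≠ 2 → u ≠ p →
    ∀ (A E V : Subgroup G), IsPGroup p A → (∀ a ∈ A, ∀ b ∈ A, a * b = b * a) → E ≤ A →
      IsElementaryAbelian p E → Nat.card E = p ^ 3 → IsPGroup u V → ¬ PRankLE u 2 ↥V →
      A ≤ Subgroup.normalizer (V : Set G) →
      (∃ W : Subgroup G, W ≤ V ∧ A ≤ Subgroup.normalizer (W : Set G) ∧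
          IsElementaryAbelian u W ∧ ¬ IsCyclic W ∧
          ¬ PRankLE u 2 ↥(Subgroup.centralizer (W : Set G))) ∨
        (∃ W₀ D N' : Subgroup G, W₀ ≤ V ∧ D ≤ E ∧ N' ≤ W₀ ∧ ¬ IsCyclic D ∧
          D ≤ Subgroup.centralizer (W₀ : Set G) ∧ ¬ IsCyclic N' ∧
          ¬ PRankLE u 2 ↥(Subgroup.centralizer (N' : Set G)))

/-- PK1 (Step 1): a type (B) coatom over `A` carries `WData`. -/
def PK1 : Prop :=
  ∀ (G : Type u) [Group G] [Finite G] (p : ℕ) [Fact p.Prime] (A E : Subgroup G), Ctx G p A E →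
    ∀ M : Subgroup G, IsCoatom M → A ≤ M → ¬ RankLE 2 ↥(fittingSubgroup ↥M) →
      ∃ (u : ℕ) (W : Subgroup G), WData p A M u W

/-- PK2 (IRR): an `A`-minimal `p'`-group is centralized by a subgroup of order `p ^ 2` of `E`. -/
def PK2 : Prop :=
  ∀ (G : Type u) [Group G] [Finite G] (p : ℕ) [Fact p.Prime] (A E V' : Subgroup G),
    IsPGroup p A → (∀ a ∈ A, ∀ b ∈ A, a * b = b * a) → E ≤ A → IsElementaryAbelian p E →
    Nat.card E = p ^ 3 → (Nat.card V').Coprime p → AMin A V' →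
    ∃ D : Subgroup G, D ≤ E ∧ Nat.card D = p ^ 2 ∧ D ≤ Subgroup.centralizer (V' : Set G)

/-- PK3 (GOOD): some nonidentity element of `E` has its centralizer inside `M`. -/
def PK3 : Prop :=
  ∀ (G : Type u) [Group G] [Finite G] (p : ℕ) [Fact p.Prime] (A E : Subgroup G), Ctx G p A E →
    ∀ (M : Subgroup G) (u : ℕ) (W : Subgroup G), WData p A M u W →
      ∃ b ∈ E, b ≠ 1 ∧ Subgroup.centralizer ({b} : Set G) ≤ M

/-- PK4 ((B5), (B6), (B7)): from `WData` and a good element, the full type (B) data. -/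
def PK4 : Prop :=
  ∀ (G : Type u) [Group G] [Finite G] (p : ℕ) [Fact p.Prime] (A E : Subgroup G), Ctx G p A E →
    ∀ (M : Subgroup G) (u : ℕ) (W : Subgroup G), WData p A M u W →
      ∀ b ∈ E, b ≠ 1 → Subgroup.centralizer ({b} : Set G) ≤ M → TypeB p A M u W

/-- PK5 (Step 3, N1): no type (A') coatom contains `A` and an `A`-minimal `V' ≤ W` with
`V' = [V', A]`. -/
def PK5 : Prop :=
  ∀ (G : Type u) [Group G] [Finite G] (p : ℕ) [Fact p.Prime] (A E : Subgroup G), Ctx G p A E →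
    ∀ (M : Subgroup G) (u : ℕ) (W : Subgroup G), TypeB p A M u W →
      ¬ RankLE 2 ↥(fittingSubgroup ↥M) →
      ∀ V' : Subgroup G, V' ≤ W → AMin A V' → V' ≤ ⁅V', A⁆ →
        ∀ H : Subgroup G, IsCoatom H → A ≤ H → V' ≤ H → ¬ RankLE 2 ↥(fittingSubgroup ↥H)

/-- PK6 (Step 4, N2): in another coatom `M° ≥ N_G(A)`, `[A, N_G(A)]` centralizes every
`A`-invariant `u`-subgroup. -/
def PK6 : Prop :=
  ∀ (G : Type u) [Group G] [Finite G] (p : ℕ) [Fact p.Prime] (A E : Subgroup G), Ctx G p A E →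
    ∀ (M : Subgroup G) (u : ℕ) (W : Subgroup G), TypeB p A M u W →
      ∀ M' : Subgroup G, IsCoatom M' → M' ≠ M → Subgroup.normalizer (A : Set G) ≤ M' →
        ∀ Y' : Subgroup G, Y' ≤ M' → IsPGroup u Y' → A ≤ Subgroup.normalizer (Y' : Set G) →
          ⁅A, Subgroup.normalizer (A : Set G)⁆ ≤ Subgroup.centralizer (Y' : Set G)

/-- PK7 (BURN): `[A, N_G(A)] ≠ 1` for `A ∈ SCN(P)`, `A ≠ 1` (Burnside's transfer theorem). -/
def PK7 : Prop :=
  ∀ (G : Type u) [Group G] [Finite G], IsMinSimpleOddOrder G →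
    ∀ (p : ℕ) [Fact p.Prime] (P : Sylow p G) (A : Subgroup G), IsSCN (P : Subgroup G) A →
      A ≠ ⊥ → ⁅A, Subgroup.normalizer (A : Set G)⁆ ≠ ⊥

/-- PK8 (MINS): if `B ≤ A` does not centralize the abelian `A`-invariant `p'`-group `W`, some
`A`-minimal `V' ≤ W` is not centralized by `B`, and `V' = [V', A]`. -/
def PK8 : Prop :=
  ∀ (G : Type u) [Group G] [Finite G] (p : ℕ) [Fact p.Prime] (A B W : Subgroup G),
    IsPGroup p A → (∀ a ∈ A, ∀ b ∈ A, a * b = b * a) → B ≤ A →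
    (∀ x ∈ W, ∀ y ∈ W, x * y = y * x) → (Nat.card W).Coprime p →
    A ≤ Subgroup.normalizer (W : Set G) → ¬ B ≤ Subgroup.centralizer (W : Set G) →
    ∃ V' : Subgroup G, V' ≤ W ∧ AMin A V' ∧ ¬ B ≤ Subgroup.centralizer (V' : Set G) ∧
      V' ≤ ⁅V', A⁆

/-- PK9 (CASE 0): some coatom over `A` is of type (B). -/
def PK9 : Prop :=
  ∀ (G : Type u) [Group G] [Finite G] (p : ℕ) [Fact p.Prime] (A E : Subgroup G), Ctx G p A E →
    ∃ M : Subgroup G, IsCoatom M ∧ A ≤ M ∧ ¬ RankLE 2 ↥(fittingSubgroup ↥M)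

/-- PK0: the hypotheses of S1402 and the failure of its conclusion give the context. -/
def PK0 : Prop :=
  ∀ (G : Type u) [Group G] [Finite G], IsMinSimpleOddOrder G →
    ∀ (p : ℕ) [Fact p.Prime] (P : Sylow p G) (A : Subgroup G), IsSCN (P : Subgroup G) A →
      ¬ PRankLE p 2 ↥A → ¬ InUniqueMaximal A → ∃ E : Subgroup G, Ctx G p A E

end Cfsg.Agent.Lib.Lead.BG95
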