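import Mathlib
import Cfsg.Agent.Lib.Lead.BG95.Defs
import Cfsg.Agent.Lib.Helper61.BG9d
import Cfsg.Agent.S1398
import Cfsg.Agent.S1399

/-!
Team project S1402 (Bender–Glauberman Lemma 9.5): the assembly (Step 5 of the paper proof) from
the packages `PK0`–`PK9` of `Lead/BG95/Defs`.
-/

set_option autoImplicit false

namespace Cfsg.Agent.Lib.Lead.BG95

open Cfsg Cfsg.Agent.Lib.Helper61

universe u

variable {G : Type u} [Group G]

theorem centralizer_singleton_ne_top (hG : IsMinSimpleOddOrder G) {b : G} (hb : b ≠ 1) :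
    Subgroup.centralizer ({b} : Set G) ≠ ⊤ := by
  obtain ⟨-, hsimple, hnc, -⟩ := hG
  intro htop
  have h1 : Subgroup.zpowers b ≠ ⊥ := by
    intro h
    exact hb (Subgroup.zpowers_eq_bot.mp h)
  apply bg_centralizer_ne_top hsimple hnc h1
  rw [eq_top_iff]
  intro g _
  have hg : g ∈ Subgroup.centralizer ({b} : Set G) := by rw [htop]; exact Subgroup.mem_top g
  rw [Subgroup.mem_centralizer_iff] at hg ⊢
  intro x hx
  obtain ⟨i, rfl⟩ := Subgroup.mem_zpowers_iff.mp hx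
  have h2 : Commute b g := hg b rfl
  exact (h2.zpow_left i).eq

variable [Finite G] {p : ℕ} [Fact p.Prime] {A E : Subgroup G}

/-- A type (B) coatom over `A` carries the full type (B) data. -/
theorem exists_typeB (h1 : PK1.{u}) (h3 : PK3.{u}) (h4 : PK4.{u}) (C : Ctx G p A E)
    {M : Subgroup G} (hM : IsCoatom M) (hAM : A ≤ M)
    (hB : ¬ RankLE 2 ↥(fittingSubgroup ↥M)) :
    ∃ (u : ℕ) (W : Subgroup G), TypeB p A M u W := by
  obtain ⟨u, W, hW⟩ := h1 G p A E C M hM hAM hB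
  obtain ⟨b, hbE, hb1, hbM⟩ := h3 G p A E C M u W hW
  exact ⟨u, W, h4 G p A E C M u W hW b hbE hb1 hbM⟩

/-- Step 5, for one `A`-minimal `V' ≤ W` with `V' = [V', A]`. -/
theorem step5_one (h1 : PK1.{u}) (h2 : PK2.{u}) (h3 : PK3.{u}) (h4 : PK4.{u}) (h5 : PK5.{u})
    (h6 : PK6.{u}) (C : Ctx G p A E) {M : Subgroup G} {u : ℕ} {W : Subgroup G}
    (hT : TypeB p A M u W) (hB : ¬ RankLE 2 ↥(fittingSubgroup ↥M)) {V' : Subgroup G}
    (hV'W : V' ≤ W) (hmin : AMin A V') (hcomm : V' ≤ ⁅V', A⁆) :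
    ⁅A, Subgroup.normalizer (A : Set G)⁆ ≤ Subgroup.centralizer (V' : Set G) ∧
      ∃ (H : Subgroup G) (u' : ℕ) (W' : Subgroup G), TypeB p A H u' W' ∧ H ≠ M ∧
        ¬ RankLE 2 ↥(fittingSubgroup ↥H) := by
  have hp : p.Prime := Fact.out
  have : Fact u.Prime := ⟨hT.hu⟩
  have hV'u : IsPGroup u V' := (bg_isPGroup_of_isEA hT.hWe).to_le hV'W
  have hcop : (Nat.card V').Coprime p := by
    obtain ⟨n, hn⟩ := IsPGroup.iff_card.mp hV'u
    rw [hn]
    exact Nat.Coprime.pow_left n ((Nat.coprime_primes hT.hu hp).mpr hT.hup)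
  obtain ⟨D, hDE, hD2, hDV'⟩ := h2 G p A E V' C.hAp C.hAc C.hEA C.hEe C.hE3 hcop hmin
  have hDe : IsElementaryAbelian p D :=
    bg_isEA_of_forall (fun a ha b hb => C.hAc a (C.hEA (hDE ha)) b (C.hEA (hDE hb)))
      (fun a ha => C.hEe.2 a (hDE ha))
  have hDnc : ¬ IsCyclic D := by
    apply bg_not_isCyclic_of_EA hp hDe
    rw [hD2]
    have := hp.one_lt
    nlinarith
  have hDM : D ≤ M := hDE.trans (C.hEA.trans hT.hAM)
  by_cases hall : ∀ b ∈ D, b ≠ 1 → Subgroup.centralizer ({b} : Set G) ≤ M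
  · exfalso
    have hDU := Cfsg.Agent.S1398.result C.hG M hT.hM p D hDM hDe hDnc (Or.inl hall)
    exact C.hnU (bg_unique_of_le' hDU (hDE.trans C.hEA) C.hTH.2.1)
  · push Not at hall
    obtain ⟨b, hbD, hb1, hbM⟩ := hall
    obtain ⟨H, hH, hcH⟩ := bg_exists_isCoatom_ge (centralizer_singleton_ne_top C.hG hb1)
    have hHM : H ≠ M := fun h => hbM (h ▸ hcH)
    have hbA : b ∈ A := C.hEA (hDE hbD)
    have hAH : A ≤ H := by
      intro a ha
      apply hcH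
      rw [Subgroup.mem_centralizer_iff]
      rintro x rfl
      exact C.hAc x hbA a ha
    have hV'H : V' ≤ H := by
      intro v hv
      apply hcH
      rw [Subgroup.mem_centralizer_iff]
      rintro x rfl
      exact (Subgroup.mem_centralizer_iff.mp (hDV' hbD) v hv).symm
    have hHB := h5 G p A E C M u W hT hB V' hV'W hmin hcomm H hH hAH hV'H
    obtain ⟨u', W', hT'⟩ := exists_typeB h1 h3 h4 C hH hAH hHB
    have hNA : Subgroup.normalizer (A : Set G) ≤ H := hT'.hB7 A C.hAp le_rfl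
    exact ⟨h6 G p A E C M u W hT H hH hHM hNA V' hV'H hV'u hmin.2.1, H, u', W', hT', hHM, hHB⟩

/-- Step 5 for a type (B) coatom: `[A, N_G(A)]` centralizes `W`, and there is a second type (B)
coatom. -/
theorem step5 (h1 : PK1.{u}) (h2 : PK2.{u}) (h3 : PK3.{u}) (h4 : PK4.{u}) (h5 : PK5.{u})
    (h6 : PK6.{u}) (h8 : PK8.{u}) (C : Ctx G p A E) {M : Subgroup G} {u : ℕ} {W : Subgroup G}
    (hT : TypeB p A M u W) (hB : ¬ RankLE 2 ↥(fittingSubgroup ↥M)) :
    ⁅A, Subgroup.normalizer (A : Set G)⁆ ≤ Subgroup.centralizer (W : Set G) ∧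
      ∃ (H : Subgroup G) (u' : ℕ) (W' : Subgroup G), TypeB p A H u' W' ∧ H ≠ M ∧
        ¬ RankLE 2 ↥(fittingSubgroup ↥H) := by
  have hp : p.Prime := Fact.out
  have : Fact u.Prime := ⟨hT.hu⟩
  have hWu : IsPGroup u W := bg_isPGroup_of_isEA hT.hWe
  have hWcop : (Nat.card W).Coprime p := by
    obtain ⟨n, hn⟩ := IsPGroup.iff_card.mp hWu
    rw [hn]
    exact Nat.Coprime.pow_left n ((Nat.coprime_primes hT.hu hp).mpr hT.hup)
  have hWab : ∀ x ∈ W, ∀ y ∈ W, x * y = y * x := by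
    intro x hx y hy
    exact congrArg Subtype.val (hT.hWe.1.is_comm.comm (⟨x, hx⟩ : W) ⟨y, hy⟩)
  have hA1A : ⁅A, Subgroup.normalizer (A : Set G)⁆ ≤ A := by
    rw [Subgroup.commutator_le]
    intro a ha n hn
    have h1 : n * a⁻¹ * n⁻¹ ∈ A := (Subgroup.mem_normalizer_iff.mp hn a⁻¹).mp (A.inv_mem ha)
    rw [commutatorElement_def]
    have h2 : a * n * a⁻¹ * n⁻¹ = a * (n * a⁻¹ * n⁻¹) := by group
    rw [h2]
    exact A.mul_mem ha h1
  constructor
  · by_contra hnc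
    obtain ⟨V', hV'W, hmin, hnB, hcomm⟩ :=
      h8 G p A _ W C.hAp C.hAc hA1A hWab hWcop hT.hAW hnc
    exact hnB (step5_one h1 h2 h3 h4 h5 h6 C hT hB hV'W hmin hcomm).1
  · have hnA : ¬ A ≤ Subgroup.centralizer (W : Set G) := by
      intro h
      apply C.hnU
      refine Cfsg.Agent.S1399.result C.hG W A (hT.hWU W le_rfl hT.hWnc) h ?_
      apply bg_not_rankLE_one hp C.hEe C.hEA
      rw [C.hE3]
      have := hp.one_lt
      nlinarith [pow_pos hp.pos 2]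
    obtain ⟨V', hV'W, hmin, -, hcomm⟩ :=
      h8 G p A A W C.hAp C.hAc le_rfl hWab hWcop hT.hAW hnA
    exact (step5_one h1 h2 h3 h4 h5 h6 C hT hB hV'W hmin hcomm).2

/-- BG Lemma 9.5 from the packages. -/
theorem main (h0 : PK0.{u}) (h1 : PK1.{u}) (h2 : PK2.{u}) (h3 : PK3.{u}) (h4 : PK4.{u})
    (h5 : PK5.{u}) (h6 : PK6.{u}) (h7 : PK7.{u}) (h8 : PK8.{u}) (h9 : PK9.{u})
    (hG : IsMinSimpleOddOrder G) (P : Sylow p G) (A : Subgroup G)
    (hA : IsSCN (P : Subgroup G) A) (hA3 : ¬ PRankLE p 2 ↥A) : InUniqueMaximal A := by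
  by_contra hnU
  obtain ⟨E, C⟩ := h0 G hG p P A hA hA3 hnU
  obtain ⟨M, hM, hAM, hB⟩ := h9 G p A E C
  obtain ⟨u, W, hT⟩ := exists_typeB h1 h3 h4 C hM hAM hB
  obtain ⟨hc1, H, u', W', hT', hHM, hHB⟩ := step5 h1 h2 h3 h4 h5 h6 h8 C hT hB
  obtain ⟨hc2, -⟩ := step5 h1 h2 h3 h4 h5 h6 h8 C hT' hHB
  have hA1 : ⁅A, Subgroup.normalizer (A : Set G)⁆ ≠ ⊥ := h7 G hG p P A hA C.hTH.1
  obtain ⟨e, he1⟩ := (Subgroup.ne_bot_iff_exists_ne_one).mp hA1
  have he1' : (e : G) ≠ 1 := fun h => he1 (Subtype.ext h)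
  obtain ⟨L, hL, hcL⟩ := bg_exists_isCoatom_ge (centralizer_singleton_ne_top hG he1')
  have hWL : W ≤ L := by
    intro w hw
    apply hcL
    rw [Subgroup.mem_centralizer_iff]
    rintro x rfl
    exact (Subgroup.mem_centralizer_iff.mp (hc1 e.2) w hw).symm
  have hW'L : W' ≤ L := by
    intro w hw
    apply hcL
    rw [Subgroup.mem_centralizer_iff]
    rintro x rfl
    exact (Subgroup.mem_centralizer_iff.mp (hc2 e.2) w hw).symm
  have e1 : M = L := bg_unique_eq (hT.hWU W le_rfl hT.hWnc) hT.hM hT.hWM hL hWL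
  have e2 : H = L := bg_unique_eq (hT'.hWU W' le_rfl hT'.hWnc) hT'.hM hT'.hWM hL hW'L
  exact hHM (e2.trans e1.symm)

end Cfsg.Agent.Lib.Lead.BG95
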